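import Cfsg.Agent.Lib.Helper10.RedSyl.Defs

/-! RedSyl piece C1 (helper15): a diagonal element with a repeated eigenvalue. -/

set_option autoImplicit false

namespace Cfsg.Agent.Lib.Helper10.RedSyl

open Matrix

variable {F : Type*} [Field F] {p : ℕ}

namespace C1

/-- the idempotent `E_aa + E_ab` -/
def E (a b : Fin p) : Matrix (Fin p) (Fin p) F := Matrix.single a a 1 + Matrix.single a b 1

theorem E_mul_E {a b : Fin p} (hab : a ≠ b) : (E a b : Matrix (Fin p) (Fin p) F) * E a b = E a b := by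
  unfold E
  rw [add_mul, mul_add, mul_add, Matrix.single_mul_single_same, Matrix.single_mul_single_same,
    Matrix.single_mul_single_of_ne _ _ _ _ hab.symm, Matrix.single_mul_single_of_ne _ _ _ _ hab.symm]
  simp

theorem diag_mul_E (d : Fin p → F) (a b : Fin p) :
    Matrix.diagonal d * (E a b : Matrix (Fin p) (Fin p) F) = d a • E a b := by
  ext i j
  rw [Matrix.diagonal_mul, Matrix.smul_apply, smul_eq_mul]
  unfold E
  by_cases h : i = a
  · rw [h]
  · simp [Matrix.single_apply, Ne.symm h]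

theorem E_mul_diag (d : Fin p → F) {a b : Fin p} (hd : d a = d b) :
    (E a b : Matrix (Fin p) (Fin p) F) * Matrix.diagonal d = d a • E a b := by
  ext i j
  rw [Matrix.mul_diagonal, Matrix.smul_apply, smul_eq_mul]
  unfold E
  simp only [Matrix.add_apply, Matrix.single_apply]
  by_cases h1 : a = j
  · subst h1
    ring
  · by_cases h2 : b = j
    · subst h2
      rw [hd]; ring
    · simp [h1, h2]

/-- `1 + (ζ^k - 1) E` -/
def Y (ζ : F) (a b : Fin p) (k : ℕ) : Matrix (Fin p) (Fin p) F := 1 + (ζ ^ k - 1) • E a b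

theorem Y_mul (ζ : F) {a b : Fin p} (hab : a ≠ b) (k l : ℕ) :
    Y ζ a b k * Y ζ a b l = Y ζ a b (k + l) := by
  unfold Y
  rw [add_mul, mul_add, mul_add, one_mul, one_mul, mul_one, smul_mul_smul_comm, E_mul_E hab,
    add_assoc, ← add_smul, ← add_smul]
  congr 2
  rw [pow_add]; ring

theorem Y_zero (ζ : F) (a b : Fin p) : Y ζ a b 0 = 1 := by
  unfold Y; simp

theorem Y_pow (ζ : F) {a b : Fin p} (hab : a ≠ b) (m : ℕ) : Y ζ a b 1 ^ m = Y ζ a b m := by
  induction m with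
  | zero => rw [pow_zero, Y_zero]
  | succ m ih => rw [pow_succ, ih, Y_mul ζ hab]

theorem Y_p {ζ : F} (hζ : ζ ^ p = 1) (a b : Fin p) : Y ζ a b p = 1 := by
  unfold Y; rw [hζ]; simp

end C1

open C1 in
theorem c1 [NeZero p] (ζ : F) (hζ : ζ ^ p = 1) (hζ1 : ζ ≠ 1) (d : Fin p → F) (x : GL (Fin p) F)
    (hx : (x : Matrix (Fin p) (Fin p) F) = MM d 0) {a b : Fin p} (hab : a ≠ b) (hd : d a = d b) :
    ∃ y : GL (Fin p) F, Commute x y ∧ y ^ p = 1 ∧ ¬ InQ0 y := by
  have hp : 1 + (p - 1) = p := by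
    have := NeZero.pos p
    omega
  have h1 : Y ζ a b 1 * Y ζ a b (p - 1) = 1 := by rw [Y_mul ζ hab, hp, Y_p hζ]
  refine ⟨⟨Y ζ a b 1, Y ζ a b (p - 1), h1, _root_.mul_eq_one_comm.mp h1⟩, ?_, ?_, ?_⟩
  · apply Units.ext
    rw [Units.val_mul, Units.val_mul, hx, MM_zero]
    show Matrix.diagonal d * Y ζ a b 1 = Y ζ a b 1 * Matrix.diagonal d
    unfold Y
    rw [mul_add, add_mul, mul_one, one_mul, Matrix.mul_smul, Matrix.smul_mul, diag_mul_E,
      E_mul_diag d hd]
  · apply Units.ext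
    rw [Units.val_pow_eq_pow_val, Units.val_one]
    show Y ζ a b 1 ^ p = 1
    rw [Y_pow ζ hab, Y_p hζ]
  · rintro ⟨d', i, -, hy⟩
    have hy' : Y ζ a b 1 = MM d' i := hy
    have e1 : Y ζ a b 1 a a = ζ := by
      unfold Y E
      simp [Matrix.single_apply, hab.symm]
    have e2 : Y ζ a b 1 a b = ζ - 1 := by
      unfold Y E
      simp [Matrix.single_apply, hab]
    have hζ0 : ζ ≠ 0 := ne_zero_of_pow_eq_one hζ
    refine hab (MM_row_unique d' i (a := a) ?_ ?_)
    · rw [← hy', e1]; exact hζ0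
    · rw [← hy', e2]; exact sub_ne_zero.mpr hζ1

end Cfsg.Agent.Lib.Helper10.RedSyl
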