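import Cfsg.Agent.Lib.Helper10.RedSyl.Defs

/-! RedSyl farm (helper10, S4358): piece C2 (Vandermonde conjugation); by helper73. -/

set_option autoImplicit false

namespace Cfsg.Agent.Lib.Helper10.RedSyl

open Matrix

variable {F : Type*} [Field F] {p : ℕ}

namespace C2

theorem exMM [NeZero p] (d : Fin p → F) (hd : ∀ a, d a ≠ 0) (i : Fin p) :
    ∃ g : GL (Fin p) F, (g : Matrix (Fin p) (Fin p) F) = MM d i := by
  have h := MM_mul_inv d hd i
  exact ⟨⟨MM d i, _, h, mul_eq_one_comm.mp h⟩, rfl⟩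

end C2

theorem c2 [NeZero p] (hp3 : 3 ≤ p) (ζ : F) (hζ : ζ ^ p = 1) (hζ1 : ζ ≠ 1) (d : Fin p → F)
    (hd : ∀ a, d a ^ p = 1) (hinj : Function.Injective d) (x : GL (Fin p) F)
    (hx : (x : Matrix (Fin p) (Fin p) F) = MM d 0) :
    ∃ g x' e : GL (Fin p) F, InQ0 x' ∧ x = g * x' * g⁻¹ ∧ InQ0 e ∧ ¬ InQ0 (g * e * g⁻¹) := by
  have hdet : (Matrix.vandermonde d).det ≠ 0 := Matrix.det_vandermonde_ne_zero_iff.mpr hinj
  obtain ⟨g, hg⟩ : ∃ g : GL (Fin p) F, (g : Matrix (Fin p) (Fin p) F) = Matrix.vandermonde d :=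
    ⟨Matrix.GeneralLinearGroup.mkOfDetNeZero (Matrix.vandermonde d) hdet, rfl⟩
  obtain ⟨x', hx'⟩ := C2.exMM (fun _ : Fin p => (1 : F)) (fun _ => one_ne_zero) 1
  obtain ⟨ε, hεdef⟩ : ∃ ε : Fin p → F, ε = fun k : Fin p => if (k : ℕ) = 0 then ζ else 1 :=
    ⟨_, rfl⟩
  have hε : ∀ k, ε k ^ p = 1 := by
    intro k
    rw [hεdef]
    by_cases h : (k : ℕ) = 0
    · simp only [h, if_true]; exact hζ
    · simp only [h, if_false]; exact one_pow _
  obtain ⟨e, he⟩ := C2.exMM ε (fun a => ne_zero_of_pow_eq_one (hε a)) 0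
  refine ⟨g, x', e, ⟨_, _, fun _ => one_pow _, hx'⟩, ?_, ⟨ε, 0, hε, he⟩, ?_⟩
  · rw [eq_mul_inv_iff_mul_eq]
    apply Units.ext
    rw [Units.val_mul, Units.val_mul, hx, hx', hg]
    ext a k
    rw [MM_zero, Matrix.diagonal_mul, Matrix.mul_apply, Finset.sum_eq_single (k + 1)]
    · rw [MM_apply, if_pos rfl, mul_one, vandermonde_apply, vandermonde_apply, ← pow_succ',
        Fin.val_add, Fin.val_one', Nat.mod_eq_of_lt (by omega : 1 < p), ← pow_eq_pow_mod _ (hd a)]
    · intro b _ hb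
      rw [MM_apply, if_neg hb, mul_zero]
    · intro h; exact absurd (Finset.mem_univ _) h
  · rintro ⟨d', i, hd', hy⟩
    have h1 : ((g * e * g⁻¹ : GL (Fin p) F) : Matrix (Fin p) (Fin p) F)
        * (g : Matrix (Fin p) (Fin p) F)
        = (g : Matrix (Fin p) (Fin p) F) * (e : Matrix (Fin p) (Fin p) F) := by
      rw [← Units.val_mul, ← Units.val_mul]
      congr 1
      group
    rw [hy, hg, he] at h1
    have hent : ∀ a k : Fin p, d' a * d (a - i) ^ (k : ℕ) = d a ^ (k : ℕ) * ε k := by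
      intro a k
      have h2 := congrFun (congrFun h1 a) k
      rw [MM_zero, Matrix.mul_diagonal, Matrix.mul_apply, Finset.sum_eq_single (a - i)] at h2
      · rwa [MM_apply, sub_add_cancel, if_pos rfl, vandermonde_apply, vandermonde_apply] at h2
      · intro b _ hb
        rw [MM_apply, if_neg, zero_mul]
        intro h
        apply hb
        rw [h, add_sub_cancel_right]
      · intro h; exact absurd (Finset.mem_univ _) h
    have e0 := hent 0 ⟨0, by omega⟩
    have e1 := hent 0 ⟨1, by omega⟩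
    have e2 := hent 0 ⟨2, by omega⟩
    simp only [hεdef, pow_zero, pow_one, mul_one, one_mul, if_true] at e0 e1 e2
    norm_num at e1 e2
    have ht : d (-i) ≠ 0 := ne_zero_of_pow_eq_one (hd _)
    have hζ0 : ζ ≠ 0 := ne_zero_of_pow_eq_one hζ
    rw [e0] at e1 e2
    rw [← e1] at e2
    have h3 : ζ * (ζ - 1) * d (-i) ^ 2 = 0 := by linear_combination -e2
    rcases mul_eq_zero.mp h3 with h3 | h3
    · rcases mul_eq_zero.mp h3 with h3 | h3
      · exact hζ0 h3
      · exact hζ1 (sub_eq_zero.mp h3)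
    · exact ht (pow_eq_zero_iff (by norm_num) |>.mp h3)

end Cfsg.Agent.Lib.Helper10.RedSyl
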