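import Cfsg.Agent.Lib.Helper10.RedSyl.PW

/-! RedSyl farm (helper10, S4358): piece C3 (the norm element); by helper73. -/

set_option autoImplicit false

namespace Cfsg.Agent.Lib.Helper10.RedSyl

open Matrix

variable {F : Type*} [Field F] {p : ℕ}

namespace C3

section ring
variable {R : Type*} [Ring R] [Algebra F R]

theorem idem_mul (E : R) (hE : E * E = E) (a b : F) :
    (1 + (a - 1) • E) * (1 + (b - 1) • E) = 1 + (a * b - 1) • E := by
  rw [add_mul, mul_add, mul_add, one_mul, one_mul, mul_one, smul_mul_smul_comm, hE,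
    add_assoc, ← add_smul, ← add_smul]
  congr 2
  ring

theorem idem_pow (E : R) (hE : E * E = E) (a : F) (k : ℕ) :
    (1 + (a - 1) • E) ^ k = 1 + (a ^ k - 1) • E := by
  induction k with
  | zero => simp
  | succ k ih => rw [pow_succ, ih, idem_mul E hE, pow_succ]

omit [Algebra F R] in
theorem shift (X : R) (n : ℕ) (hX : X ^ n = 1) :
    ∑ m ∈ Finset.range n, X ^ (m + 1) = ∑ m ∈ Finset.range n, X ^ m := by
  have h1 := Finset.sum_range_succ (fun m => X ^ m) n
  have h2 := Finset.sum_range_succ' (fun m => X ^ m) n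
  rw [h1] at h2
  simp only [pow_zero, hX] at h2
  exact (add_right_cancel h2).symm

omit [Algebra F R] in
theorem geom (X : R) (n : ℕ) (hX : X ^ n = 1) :
    X * ∑ m ∈ Finset.range n, X ^ m = ∑ m ∈ Finset.range n, X ^ m := by
  rw [Finset.mul_sum]
  conv_rhs => rw [← shift X n hX]
  exact Finset.sum_congr rfl (fun m _ => (pow_succ' X m).symm)

omit [Algebra F R] in
theorem geom' (X : R) (n : ℕ) (hX : X ^ n = 1) :
    (∑ m ∈ Finset.range n, X ^ m) * X = ∑ m ∈ Finset.range n, X ^ m := by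
  rw [Finset.sum_mul]
  conv_rhs => rw [← shift X n hX]
  exact Finset.sum_congr rfl (fun m _ => (pow_succ X m).symm)

omit [Algebra F R] in
theorem norm_sq (X : R) (n : ℕ) (hX : X ^ n = 1) :
    (∑ m ∈ Finset.range n, X ^ m) * (∑ m ∈ Finset.range n, X ^ m)
      = n • ∑ m ∈ Finset.range n, X ^ m := by
  have hpow : ∀ m : ℕ, X ^ m * (∑ m ∈ Finset.range n, X ^ m) = ∑ m ∈ Finset.range n, X ^ m := by
    intro m
    induction m with
    | zero => rw [pow_zero, one_mul]
    | succ m ih => rw [pow_succ, mul_assoc, geom X n hX, ih]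
  conv_lhs => rw [Finset.sum_mul]
  rw [Finset.sum_congr rfl (fun m _ => hpow m), Finset.sum_const, Finset.card_range]

end ring

end C3

theorem c3 [Fact p.Prime] (hp3 : 3 ≤ p) (hpF : (p : F) ≠ 0) (ζ : F) (hζ : ζ ^ p = 1) (hζ1 : ζ ≠ 1)
    (d : Fin p → F) (hd : ∀ a, d a ≠ 0) {j : Fin p} (hj : j ≠ 0) (x : GL (Fin p) F)
    (hx : (x : Matrix (Fin p) (Fin p) F) = MM d j) (hxp : x ^ p = 1) :
    ∃ y : GL (Fin p) F, Commute x y ∧ y ^ p = 1 ∧ ¬ InQ0 y := by
  have hXp : MM d j ^ p = 1 := by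
    have := congrArg (fun u : GL (Fin p) F => (u : Matrix (Fin p) (Fin p) F)) hxp
    simpa [hx] using this
  obtain ⟨N, hN⟩ : ∃ N : Matrix (Fin p) (Fin p) F, N = ∑ m ∈ Finset.range p, MM d j ^ m :=
    ⟨_, rfl⟩
  have hXN : MM d j * N = N := by rw [hN]; exact C3.geom _ p hXp
  have hNX : N * MM d j = N := by rw [hN]; exact C3.geom' _ p hXp
  have hNN : N * N = (p : F) • N := by
    rw [Nat.cast_smul_eq_nsmul, hN]; exact C3.norm_sq _ p hXp
  have hNne : ∀ a b, N a b ≠ 0 := by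
    intro a b
    obtain ⟨m0, ⟨hm0, hm0j⟩, huniq⟩ := exists_unique_nsmul hj (a - b)
    have h1 : N a b = dm d j m0 a := by
      rw [hN, Matrix.sum_apply, Finset.sum_eq_single m0]
      · rw [MM_pow, MM_apply, if_pos]
        rw [hm0j]; abel
      · intro m hm hne
        rw [MM_pow, MM_apply, if_neg]
        intro h
        apply hne
        apply huniq
        exact ⟨Finset.mem_range.mp hm, by rw [h]; abel⟩
      · intro h; exact absurd (Finset.mem_range.mpr hm0) h
    rw [h1]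
    exact Finset.prod_ne_zero_iff.mpr (fun k _ => hd _)
  obtain ⟨E, hE⟩ : ∃ E : Matrix (Fin p) (Fin p) F, E = (p : F)⁻¹ • N := ⟨_, rfl⟩
  have hEE : E * E = E := by
    rw [hE, smul_mul_smul_comm, hNN, smul_smul, mul_assoc, inv_mul_cancel₀ hpF, mul_one]
  have hXE : MM d j * E = E := by rw [hE, mul_smul_comm, hXN]
  have hEX : E * MM d j = E := by rw [hE, smul_mul_assoc, hNX]
  have hYp : (1 + (ζ - 1) • E) ^ p = 1 := by
    rw [C3.idem_pow E hEE, hζ, sub_self, zero_smul, add_zero]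
  have hp0 : p ≠ 0 := by omega
  refine ⟨Units.ofPowEqOne _ p hYp hp0, ?_, Units.pow_ofPowEqOne hYp hp0, ?_⟩
  · apply Units.ext
    rw [Units.val_mul, Units.val_mul, hx, Units.val_ofPowEqOne, mul_add, add_mul, mul_one, one_mul,
      mul_smul_comm, smul_mul_assoc, hXE, hEX]
  · rintro ⟨d', i, -, hy⟩
    rw [Units.val_ofPowEqOne] at hy
    have hoff : ∀ a b : Fin p, a ≠ b → (1 + (ζ - 1) • E) a b ≠ 0 := by
      intro a b hab
      rw [Matrix.add_apply, Matrix.one_apply_ne hab, zero_add, hE, Matrix.smul_apply,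
        Matrix.smul_apply, smul_eq_mul, smul_eq_mul]
      exact mul_ne_zero (sub_ne_zero.mpr hζ1) (mul_ne_zero (inv_ne_zero hpF) (hNne a b))
    have h1 := hoff ⟨0, by omega⟩ ⟨1, by omega⟩ (by simp [Fin.ext_iff])
    have h2 := hoff ⟨0, by omega⟩ ⟨2, by omega⟩ (by simp [Fin.ext_iff])
    rw [hy] at h1 h2
    have := MM_row_unique d' i h1 h2
    simp [Fin.ext_iff] at this

end Cfsg.Agent.Lib.Helper10.RedSyl
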