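import Cfsg.Agent.Lib.Helper10.RedSyl.Defs

/-! RedSyl farm, piece C4. -/

set_option autoImplicit false

namespace Cfsg.Agent.Lib.Helper10.RedSyl

open Matrix

variable {F : Type*} [Field F] {p : ℕ}

namespace C4

/-- the unit with matrix `MM d i` -/
def mkU [NeZero p] (d : Fin p → F) (hd : ∀ a, d a ≠ 0) (i : Fin p) : GL (Fin p) F :=
  ⟨MM d i, MM (fun a => (d (a + i))⁻¹) (-i), MM_mul_inv d hd i,
    mul_eq_one_comm.1 (MM_mul_inv d hd i)⟩

theorem mkU_val [NeZero p] (d : Fin p → F) (hd : ∀ a, d a ≠ 0) (i : Fin p) :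
    ((mkU d hd i : GL (Fin p) F) : Matrix (Fin p) (Fin p) F) = MM d i := rfl

theorem two_nsmul_ne [Fact p.Prime] (hp2 : p ≠ 2) {j : Fin p} (hj : j ≠ 0) : j + j ≠ 0 := by
  intro h
  apply hj
  have h1 := congrArg Fin.val h
  rw [Fin.val_add, Fin.val_zero] at h1
  have h2 : p ∣ j.val + j.val := Nat.dvd_of_mod_eq_zero h1
  rw [← two_mul] at h2
  have hpp : p.Prime := Fact.out
  rcases (Nat.Prime.dvd_mul hpp).1 h2 with h3 | h3
  · exact absurd ((Nat.prime_dvd_prime_iff_eq hpp Nat.prime_two).1 h3) hp2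
  · have := Nat.eq_zero_of_dvd_of_lt h3 j.isLt
    exact Fin.ext (by rw [this, Fin.val_zero])

end C4

open C4 in
theorem c4 [Fact p.Prime] (hp2 : p ≠ 2) (ζ : F) (hζ : ζ ^ p = 1) (hζ1 : ζ ≠ 1)
    (d : Fin p → F) (hd : ∀ a, d a ≠ 0) {j : Fin p} (hj : j ≠ 0) (x : GL (Fin p) F)
    (hx : (x : Matrix (Fin p) (Fin p) F) = MM d j) (δ : F) (hδ : δ ^ p = 1) (hδ1 : δ ≠ 1)
    (hxp : (x : Matrix (Fin p) (Fin p) F) ^ p = δ • (1 : Matrix (Fin p) (Fin p) F)) :
    ∃ g e : GL (Fin p) F, Commute g x ∧ InQ0 e ∧ ¬ InQ0 (g * e * g⁻¹) := by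
  have hpp : p.Prime := Fact.out
  have hodd : Odd p := hpp.eq_two_or_odd'.resolve_left hp2
  have h1δ : 1 + δ ≠ 0 := by
    intro h
    have h' : δ = -1 := by linear_combination h
    rw [h', hodd.neg_one_pow] at hδ
    exact hδ1 (by rw [h', hδ])
  set X : Matrix (Fin p) (Fin p) F := MM d j with hX
  rw [hx] at hxp
  have hgs : (1 + X) * ∑ m ∈ Finset.range p, (-X) ^ m = (1 + δ) • (1 : Matrix (Fin p) (Fin p) F) := by
    have := mul_neg_geom_sum (-X) p
    rw [sub_neg_eq_add, hodd.neg_pow, hxp, sub_neg_eq_add] at this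
    rw [this, add_smul, one_smul]
  have hinv : (1 + X) * ((1 + δ)⁻¹ • ∑ m ∈ Finset.range p, (-X) ^ m) = 1 := by
    rw [Matrix.mul_smul, hgs, smul_smul, inv_mul_cancel₀ h1δ, one_smul]
  let g : GL (Fin p) F := ⟨1 + X, _, hinv, mul_eq_one_comm.1 hinv⟩
  have hgval : (g : Matrix (Fin p) (Fin p) F) = 1 + X := rfl
  let ε : Fin p → F := Function.update (fun _ => 1) 0 ζ
  have hε0 : ε 0 = ζ := Function.update_self _ _ _
  have hε1 : ∀ a, a ≠ 0 → ε a = 1 := fun a ha => Function.update_of_ne ha _ _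
  have hζ0 : ζ ≠ 0 := ne_zero_of_pow_eq_one hζ
  have hεp : ∀ a, ε a ^ p = 1 := by
    intro a
    by_cases ha : a = 0
    · rw [ha, hε0, hζ]
    · rw [hε1 a ha, one_pow]
  have hεne : ∀ a, ε a ≠ 0 := fun a => ne_zero_of_pow_eq_one (hεp a)
  refine ⟨g, mkU ε hεne 0, ?_, ⟨ε, 0, hεp, rfl⟩, ?_⟩
  · apply Units.ext
    rw [Units.val_mul, Units.val_mul, hgval, hx, add_mul, mul_add, one_mul, mul_one]
  · rintro ⟨d', i, hd', hval⟩
    have hd'0 : ∀ a, d' a ≠ 0 := fun a => ne_zero_of_pow_eq_one (hd' a)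
    have hmain : (1 + X) * MM ε 0 = MM d' i * (1 + X) := by
      rw [← hval, ← hgval, ← mkU_val ε hεne 0, ← Units.val_mul, ← Units.val_mul,
        inv_mul_cancel_right]
    rw [add_mul, mul_add, one_mul, mul_one, hX, MM_mul, MM_mul, add_zero] at hmain
    have hent : ∀ a b : Fin p, (if a = b + 0 then ε a else 0) + (if a = b + j then d a * ε (a - j) else 0)
        = (if a = b + i then d' a else 0) + (if a = b + (i + j) then d' a * d (a - i) else 0) := by
      intro a b
      have := congrFun (congrFun hmain a) b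
      simpa only [Matrix.add_apply, MM_apply] using this
    have hne1 : ∀ a : Fin p, ¬ a = a + j := by
      intro a h
      exact hj (by simpa using h)
    have hne2 : ∀ a : Fin p, ¬ a = a - j + 0 := by
      intro a h
      apply hj
      rw [add_zero, eq_sub_iff_add_eq] at h
      simpa using h
    by_cases hi : i = 0
    · subst hi
      have h1 : ∀ a, d' a = ε a := by
        intro a
        have := hent a a
        rw [add_zero, if_pos rfl, if_neg (hne1 a), zero_add, if_neg (hne1 a), add_zero, add_zero,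
          if_pos rfl] at this
        exact this.symm
      have h2 := hent 0 (0 - j)
      rw [if_neg (hne2 0), if_neg (hne2 0), sub_add_cancel, if_pos rfl, zero_add, zero_add, zero_add,
        sub_add_cancel, if_pos rfl,
        sub_zero, h1, hε0, hε1 (0 - j) (by rw [zero_sub]; exact neg_ne_zero.2 hj), mul_one] at h2
      -- d 0 = ζ * d 0
      apply hζ1
      have h3 : (ζ - 1) * d 0 = 0 := by linear_combination -h2
      rcases mul_eq_zero.1 h3 with h4 | h4
      · exact sub_eq_zero.1 h4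
      · exact absurd h4 (hd 0)
    · have hne3 : ∀ a : Fin p, ¬ a = a + i := by
        intro a h
        exact hi (by simpa using h)
      have hij : i + j = 0 := by
        by_contra hcon
        have := hent 0 0
        rw [add_zero, if_pos rfl, if_neg (hne1 0), if_neg (hne3 0), add_zero, zero_add,
          if_neg (by rw [zero_add]; exact fun h => hcon h.symm)] at this
        exact hεne 0 this
      have h2 := hent 0 (0 - j)
      rw [if_neg (hne2 0), sub_add_cancel, if_pos rfl, zero_add, hij, if_neg (hne2 0), add_zero] at h2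
      have hne4 : ¬ (0 : Fin p) = 0 - j + i := by
        intro h
        have hij' : i = j := by
          rw [zero_sub, eq_comm, neg_add_eq_zero] at h
          exact h.symm
        rw [hij'] at hij
        exact two_nsmul_ne hp2 hj hij
      rw [if_neg hne4] at h2
      exact mul_ne_zero (hd 0) (hεne _) h2

end Cfsg.Agent.Lib.Helper10.RedSyl
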