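import Mathlib

/-!
# Redundant Sylow subgroup of `GL_p(q)` (S4358): definitions and basic lemmas
(paper proof by helper26)
-/

set_option autoImplicit false

namespace Cfsg.Agent.Lib.Helper10.RedSyl

open Matrix

variable {F : Type*} [Field F] {p : ℕ} [NeZero p]

/-- the monomial matrix of "degree `i`" with coefficients `d`: entry `(a, b)` is `d a` if
`a = b + i` and `0` otherwise -/
def MM (d : Fin p → F) (i : Fin p) : Matrix (Fin p) (Fin p) F :=
  Matrix.of fun a b => if a = b + i then d a else 0

theorem MM_apply (d : Fin p → F) (i a b : Fin p) :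
    MM d i a b = if a = b + i then d a else 0 := rfl

theorem MM_mul (d d' : Fin p → F) (i k : Fin p) :
    MM d i * MM d' k = MM (fun a => d a * d' (a - i)) (i + k) := by
  ext a c
  rw [Matrix.mul_apply, Finset.sum_eq_single (a - i)]
  · simp only [MM_apply, sub_add_cancel, if_true]
    by_cases h : a - i = c + k
    · have h' : a = c + (i + k) := by
        rw [sub_eq_iff_eq_add] at h
        rw [h]; abel
      rw [if_pos h, if_pos h']
    · have h' : ¬ a = c + (i + k) := by
        intro h'
        apply h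
        rw [h']; abel
      rw [if_neg h, if_neg h', mul_zero]
  · intro b _ hb
    have : ¬ a = b + i := by
      intro h
      apply hb
      rw [h, add_sub_cancel_right]
    rw [MM_apply, if_neg this, zero_mul]
  · intro h
    exact absurd (Finset.mem_univ _) h

theorem MM_zero (d : Fin p → F) : MM d 0 = Matrix.diagonal d := by
  ext a b
  rw [MM_apply, add_zero, Matrix.diagonal_apply]

theorem MM_one : MM (fun _ => (1 : F)) (0 : Fin p) = 1 := by
  rw [MM_zero, Matrix.diagonal_one]

/-- each row of `MM d i` has at most one nonzero entry -/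
theorem MM_row_unique (d : Fin p → F) (i : Fin p) {a b b' : Fin p} (h : MM d i a b ≠ 0)
    (h' : MM d i a b' ≠ 0) : b = b' := by
  rw [MM_apply] at h h'
  have h1 : a = b + i := by
    by_contra hc
    rw [if_neg hc] at h
    exact h rfl
  have h2 : a = b' + i := by
    by_contra hc
    rw [if_neg hc] at h'
    exact h' rfl
  exact add_right_cancel (h1.symm.trans h2)

theorem MM_inj {d d' : Fin p → F} {i i' : Fin p} (hd : ∀ a, d a ≠ 0) (h : MM d i = MM d' i') :
    i = i' ∧ d = d' := by
  have hi : i = i' := by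
    have h1 : MM d' i' i 0 ≠ 0 := by
      rw [← h, MM_apply, zero_add, if_pos rfl]
      exact hd i
    rw [MM_apply] at h1
    by_contra hc
    rw [zero_add, if_neg hc] at h1
    exact h1 rfl
  refine ⟨hi, ?_⟩
  subst hi
  funext a
  have h1 := congrFun (congrFun h a) (a - i)
  rwa [MM_apply, MM_apply, sub_add_cancel, if_pos rfl, if_pos rfl] at h1

/-- membership in the monomial `p`-group `μ_p wr C_p` -/
def InQ0 (g : GL (Fin p) F) : Prop :=
  ∃ (d : Fin p → F) (i : Fin p), (∀ a, d a ^ p = 1) ∧ (g : Matrix (Fin p) (Fin p) F) = MM d i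

theorem MM_mul_inv (d : Fin p → F) (hd : ∀ a, d a ≠ 0) (i : Fin p) :
    MM d i * MM (fun a => (d (a + i))⁻¹) (-i) = 1 := by
  rw [MM_mul, add_neg_cancel, ← MM_one]
  congr 1
  funext a
  rw [sub_add_cancel, mul_inv_cancel₀ (hd a)]

theorem ne_zero_of_pow_eq_one {x : F} (h : x ^ p = 1) : x ≠ 0 := by
  rintro rfl
  rw [zero_pow (NeZero.ne p)] at h
  exact zero_ne_one h

/-- the monomial group `μ_p wr C_p` -/
def Q0 (F : Type*) [Field F] (p : ℕ) [NeZero p] : Subgroup (GL (Fin p) F) where
  carrier := {g | InQ0 g}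
  mul_mem' := by
    rintro g g' ⟨d, i, hd, hg⟩ ⟨d', i', hd', hg'⟩
    refine ⟨fun a => d a * d' (a - i), i + i', fun a => ?_, ?_⟩
    · rw [mul_pow, hd, hd', one_mul]
    · rw [Units.val_mul, hg, hg', MM_mul]
  one_mem' := ⟨fun _ => 1, 0, fun _ => one_pow _, by rw [Units.val_one, MM_one]⟩
  inv_mem' := by
    rintro g ⟨d, i, hd, hg⟩
    refine ⟨fun a => (d (a + i))⁻¹, -i, fun a => ?_, ?_⟩
    · rw [inv_pow, hd, inv_one]
    · rw [Matrix.coe_units_inv, hg]
      exact Matrix.inv_eq_right_inv (MM_mul_inv d (fun a => ne_zero_of_pow_eq_one (hd a)) i)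

theorem mem_Q0 {g : GL (Fin p) F} : g ∈ Q0 F p ↔ InQ0 g := Iff.rfl

/-- the coefficients of `(MM d j) ^ m` -/
def dm (d : Fin p → F) (j : Fin p) (m : ℕ) : Fin p → F :=
  fun a => ∏ k ∈ Finset.range m, d (a - k • j)

end Cfsg.Agent.Lib.Helper10.RedSyl
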