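import Mathlib

/-! RedSyl farm (S4358), piece PA: three abstract Sylow lemmas. -/

set_option autoImplicit false

namespace Cfsg.Agent.Lib.Helper10.RedSyl

open scoped Pointwise

theorem exists_sylow_of_not_mem {G : Type*} [Group G] [Finite G] {p : ℕ} [Fact p.Prime] (Q : Sylow p G)
    (x : G) (hx : ∃ k : ℕ, orderOf x = p ^ k) (hxQ : x ∉ Q) :
    ∃ P : Sylow p G, P ≠ Q ∧ x ∈ P := by
  obtain ⟨k, hk⟩ := hx
  have hp : IsPGroup p (Subgroup.zpowers x) := IsPGroup.of_card (n := k) (by rw [Nat.card_zpowers, hk])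
  obtain ⟨P, hP⟩ := hp.exists_le_sylow
  have hxP : x ∈ P := hP (Subgroup.mem_zpowers x)
  refine ⟨P, ?_, hxP⟩
  rintro rfl
  exact hxQ hxP

theorem exists_sylow_of_comm {G : Type*} [Group G] [Finite G] {p : ℕ} [Fact p.Prime] (Q : Sylow p G)
    (x y : G) (hxy : Commute x y) (hx : ∃ k : ℕ, orderOf x = p ^ k) (hy : y ^ p = 1) (hyQ : y ∉ Q) :
    ∃ P : Sylow p G, P ≠ Q ∧ x ∈ P := by
  obtain ⟨k, hk⟩ := hx
  have hpx : IsPGroup p (Subgroup.zpowers x) :=
    IsPGroup.of_card (n := k) (by rw [Nat.card_zpowers, hk])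
  have hpy : IsPGroup p (Subgroup.zpowers y) := by
    rintro ⟨g, hg⟩
    obtain ⟨j, rfl⟩ := Subgroup.mem_zpowers_iff.1 hg
    refine ⟨1, Subtype.ext ?_⟩
    show (y ^ j) ^ (p ^ 1) = 1
    rw [pow_one, ← zpow_natCast, ← zpow_mul, mul_comm, zpow_mul, zpow_natCast, hy, one_zpow]
  have hnorm : Subgroup.zpowers x ≤ Subgroup.normalizer (Subgroup.zpowers y : Set G) := by
    rw [Subgroup.zpowers_le, Subgroup.mem_normalizer_iff]
    intro h
    constructor
    · intro hh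
      obtain ⟨j, rfl⟩ := Subgroup.mem_zpowers_iff.1 hh
      have : x * y ^ j * x⁻¹ = y ^ j := by
        rw [(hxy.zpow_right j).eq, mul_assoc, mul_inv_cancel, mul_one]
      rw [this]
      exact hh
    · intro hh
      obtain ⟨j, hj⟩ := Subgroup.mem_zpowers_iff.1 hh
      have : h = y ^ j := by
        have h1 : h = x⁻¹ * (x * h * x⁻¹) * x := by group
        rw [h1, ← hj, mul_assoc, ← (hxy.zpow_right j).eq, ← mul_assoc, inv_mul_cancel, one_mul]
      rw [this]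
      exact Subgroup.zpow_mem_zpowers y j
  have hsup := IsPGroup.to_sup_of_normal_right' hpx hpy hnorm
  obtain ⟨P, hP⟩ := hsup.exists_le_sylow
  have hxP : x ∈ P := hP ((le_sup_left : Subgroup.zpowers x ≤ _) (Subgroup.mem_zpowers x))
  have hyP : y ∈ P := hP ((le_sup_right : Subgroup.zpowers y ≤ _) (Subgroup.mem_zpowers y))
  refine ⟨P, ?_, hxP⟩
  rintro rfl
  exact hyQ hyP

theorem exists_sylow_of_conj {G : Type*} [Group G] [Finite G] {p : ℕ} [Fact p.Prime] (Q : Sylow p G)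
    (x x' g e : G) (hx' : x' ∈ Q) (hx : x = g * x' * g⁻¹) (he : e ∈ Q) (hge : g * e * g⁻¹ ∉ Q) :
    ∃ P : Sylow p G, P ≠ Q ∧ x ∈ P := by
  have hmem : ∀ a ∈ Q, g * a * g⁻¹ ∈ g • Q := by
    intro a ha
    have h1 : MulAut.conj g • a ∈ MulAut.conj g • (Q : Subgroup G) :=
      Subgroup.smul_mem_pointwise_smul a (MulAut.conj g) (Q : Subgroup G) ha
    exact h1
  refine ⟨g • Q, ?_, ?_⟩
  · intro h
    apply hge
    rw [← h]
    exact hmem e he
  · rw [hx]
    exact hmem x' hx'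

end Cfsg.Agent.Lib.Helper10.RedSyl
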