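import Cfsg.Agent.Lib.Helper10.RedSyl.Defs

/-! RedSyl farm (helper10, S4358): piece PW (powers of monomial matrices); by helper73. -/

set_option autoImplicit false

namespace Cfsg.Agent.Lib.Helper10.RedSyl

open Matrix

variable {F : Type*} [Field F] {p : ℕ}

theorem MM_pow [NeZero p] (d : Fin p → F) (j : Fin p) (m : ℕ) :
    MM d j ^ m = MM (dm d j m) (m • j) := by
  induction m with
  | zero =>
    rw [pow_zero, zero_nsmul, ← MM_one]
    congr 1
  | succ m ih =>
    rw [pow_succ, ih, MM_mul, succ_nsmul]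
    congr 1
    funext a
    simp only [dm]
    rw [Finset.prod_range_succ]

namespace PW

theorem nsmul_inj [Fact p.Prime] {j : Fin p} (hj : j ≠ 0) :
    Function.Injective (fun m : Fin p => (m : ℕ) • j) := by
  have hpj : p • j = 0 := by
    have := card_nsmul_eq_zero (x := j)
    rwa [Fintype.card_fin] at this
  have ho : addOrderOf j = p := addOrderOf_eq_prime hpj hj
  intro m m' h
  apply Fin.ext
  apply nsmul_injOn_Iio_addOrderOf (x := j)
  · rw [ho]; exact m.2
  · rw [ho]; exact m'.2
  · exact h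

end PW

/-- `m ↦ m • j` is a bijection from `{0, …, p-1}` to `Fin p` -/
theorem exists_unique_nsmul [Fact p.Prime] {j : Fin p} (hj : j ≠ 0) (c : Fin p) :
    ∃! m : ℕ, m < p ∧ m • j = c := by
  have hinj := PW.nsmul_inj hj
  obtain ⟨m, hm⟩ := (Finite.injective_iff_surjective.mp hinj) c
  refine ⟨m, ⟨m.2, hm⟩, ?_⟩
  rintro m' ⟨hm'p, hm'⟩
  have := hinj (a₁ := ⟨m', hm'p⟩) (a₂ := m) (hm'.trans hm.symm)
  exact congrArg Fin.val this

theorem MM_pow_prime [Fact p.Prime] (d : Fin p → F) {j : Fin p} (hj : j ≠ 0) :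
    MM d j ^ p = (∏ a, d a) • (1 : Matrix (Fin p) (Fin p) F) := by
  have hpj : p • j = 0 := by
    have := card_nsmul_eq_zero (x := j)
    rwa [Fintype.card_fin] at this
  rw [MM_pow, hpj, MM_zero, Matrix.smul_one_eq_diagonal]
  congr 1
  funext a
  simp only [dm]
  rw [Finset.prod_range]
  have hb : Function.Bijective (fun k : Fin p => a - (k : ℕ) • j) := by
    rw [← Finite.injective_iff_bijective]
    intro k k' h
    exact PW.nsmul_inj hj (sub_right_injective h)
  exact hb.prod_comp d

end Cfsg.Agent.Lib.Helper10.RedSyl
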