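import Cfsg.Agent.Lib.Helper10.RedSyl.Z

/-! RedSyl piece QC (helper15): `|Q0| = p^(p+1)`. -/

set_option autoImplicit false

namespace Cfsg.Agent.Lib.Helper10.RedSyl

open Matrix

namespace QC

variable {F : Type*} [Field F] {p : ℕ} [NeZero p]

/-- the unit with matrix `MM d i` -/
noncomputable def un (d : Fin p → F) (hd : ∀ a, d a ≠ 0) (i : Fin p) : GL (Fin p) F :=
  ⟨MM d i, MM (fun a => (d (a + i))⁻¹) (-i), MM_mul_inv d hd i,
    _root_.mul_eq_one_comm.mp (MM_mul_inv d hd i)⟩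

/-- the parametrisation of `Q0` -/
noncomputable def par (x : (Fin p → {a : F // a ^ p = 1}) × Fin p) : Q0 F p :=
  ⟨un (fun a => (x.1 a : F)) (fun a => ne_zero_of_pow_eq_one (x.1 a).2) x.2,
    ⟨fun a => (x.1 a : F), x.2, fun a => (x.1 a).2, rfl⟩⟩

theorem par_bij : Function.Bijective (par : (Fin p → {a : F // a ^ p = 1}) × Fin p → Q0 F p) := by
  constructor
  · rintro ⟨d, i⟩ ⟨d', i'⟩ h
    have h1 : MM (fun a => (d a : F)) i = MM (fun a => (d' a : F)) i' :=
      congrArg (fun g : Q0 F p => ((g : GL (Fin p) F) : Matrix (Fin p) (Fin p) F)) h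
    obtain ⟨hi, hd⟩ := MM_inj (fun a => ne_zero_of_pow_eq_one (d a).2) h1
    refine Prod.ext ?_ hi
    funext a
    exact Subtype.ext (congrFun hd a)
  · rintro ⟨g, d, i, hd, hg⟩
    refine ⟨(fun a => ⟨d a, hd a⟩, i), ?_⟩
    apply Subtype.ext
    apply Units.ext
    exact hg.symm

end QC

theorem card_Q0 {F : Type*} [Field F] [Fintype F] (p : ℕ) [Fact p.Prime]
    (h1 : p ∣ Fintype.card F - 1) : Nat.card (Q0 F p) = p ^ (p + 1) := by
  rw [← Nat.card_congr (Equiv.ofBijective _ (QC.par_bij (F := F) (p := p))), Nat.card_prod,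
    Nat.card_fun, card_mu p h1, Nat.card_fin, pow_succ]

end Cfsg.Agent.Lib.Helper10.RedSyl
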