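import Cfsg.Agent.Lib.Helper10.RedSyl.Defs

/-! RedSyl piece V (helper15): the `p`-part of `|GL_p(q)|`. -/

set_option autoImplicit false

namespace Cfsg.Agent.Lib.Helper10.RedSyl

open Matrix

theorem card_GL_factorization {F : Type*} [Field F] [Fintype F] (p : ℕ) [Fact p.Prime]
    (hp : p ≠ 2) (h1 : p ∣ Fintype.card F - 1) (h2 : ¬ p ^ 2 ∣ Fintype.card F - 1) :
    (Nat.card (GL (Fin p) F)).factorization p = p + 1 := by
  have hpp : p.Prime := Fact.out
  have hodd : Odd p := hpp.odd_of_ne_two hp
  set q := Fintype.card F with hq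
  have hq1 : 1 < q := Fintype.one_lt_card
  have hpq : ¬ p ∣ q := by
    intro h
    have : p ∣ q - (q - 1) := Nat.dvd_sub h h1
    have h3 : q - (q - 1) = 1 := by omega
    rw [h3] at this
    exact hpp.one_lt.ne' (Nat.dvd_one.mp this)
  have hv1 : padicValNat p (q - 1) = 1 := by
    have hne : q - 1 ≠ 0 := by omega
    have ha : 1 ≤ padicValNat p (q - 1) := by
      rw [← padicValNat_dvd_iff_le hne, pow_one]; exact h1
    have hb : ¬ 2 ≤ padicValNat p (q - 1) := by
      rw [← padicValNat_dvd_iff_le hne]; exact h2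
    omega
  have hk : ∀ k : ℕ, k ≠ 0 → padicValNat p (q ^ k - 1) = 1 + padicValNat p k := by
    intro k hk
    have := padicValNat.pow_sub_pow hodd hq1 h1 hpq hk
    rwa [one_pow, hv1] at this
  have hterm : ∀ i : Fin p, (q ^ p - q ^ (i : ℕ)).factorization p
      = 1 + (if (i : ℕ) = 0 then 1 else 0) := by
    intro i
    have hi : (i : ℕ) < p := i.2
    have e : q ^ p - q ^ (i : ℕ) = q ^ (i : ℕ) * (q ^ (p - (i : ℕ)) - 1) := by
      rw [Nat.mul_sub, mul_one, ← pow_add]
      congr 2
      omega
    have hne1 : q ^ (i : ℕ) ≠ 0 := pow_ne_zero _ (by omega)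
    have hne2 : q ^ (p - (i : ℕ)) - 1 ≠ 0 := by
      have : 1 < q ^ (p - (i : ℕ)) := Nat.one_lt_pow (by omega) hq1
      omega
    rw [e, Nat.factorization_mul hne1 hne2, Finsupp.add_apply, Nat.factorization_pow,
      Finsupp.smul_apply, Nat.factorization_eq_zero_of_not_dvd hpq, smul_zero, zero_add,
      Nat.factorization_def _ hpp, hk _ (by omega)]
    congr 1
    split_ifs with h0
    · rw [h0, Nat.sub_zero, padicValNat_self]
    · apply padicValNat.eq_zero_of_not_dvd
      intro hd
      have := Nat.le_of_dvd (by omega) hd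
      omega
  rw [Matrix.card_GL_field, Nat.factorization_prod]
  · rw [Finsupp.finsetSum_apply, Finset.sum_congr rfl (fun i _ => hterm i), Finset.sum_add_distrib]
    simp only [Finset.sum_const, Finset.card_univ, Fintype.card_fin, smul_eq_mul, mul_one]
    congr 1
    have : NeZero p := ⟨hpp.ne_zero⟩
    rw [Finset.sum_eq_single (0 : Fin p)]
    · simp
    · intro b _ hb
      rw [if_neg]
      intro h
      exact hb (Fin.ext h)
    · intro h; exact absurd (Finset.mem_univ _) h
  · intro i _
    have hi : (i : ℕ) < p := i.2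
    have : q ^ (i : ℕ) < q ^ p := Nat.pow_lt_pow_right hq1 hi
    exact Nat.sub_ne_zero_of_lt this

end Cfsg.Agent.Lib.Helper10.RedSyl
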