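import Cfsg.Agent.Lib.Helper10.RedSyl.Defs

/-! RedSyl piece Z (helper15). -/

set_option autoImplicit false

namespace Cfsg.Agent.Lib.Helper10.RedSyl

open Matrix

theorem exists_zeta {F : Type*} [Field F] [Fintype F] (p : ℕ) [Fact p.Prime]
    (h1 : p ∣ Fintype.card F - 1) : ∃ ζ : F, ζ ^ p = 1 ∧ ζ ≠ 1 := by
  classical
  have hp : p.Prime := Fact.out
  rw [← Fintype.card_units] at h1
  obtain ⟨x, hx⟩ := exists_prime_orderOf_dvd_card p h1
  refine ⟨(x : F), ?_, ?_⟩
  · rw [← Units.val_pow_eq_pow_val, ← hx, pow_orderOf_eq_one, Units.val_one]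
  · intro h
    have : x = 1 := Units.ext h
    rw [this, orderOf_one] at hx
    exact hp.one_lt.ne hx

theorem prime_ne_zero {F : Type*} [Field F] [Fintype F] (p : ℕ) [Fact p.Prime]
    (h1 : p ∣ Fintype.card F - 1) : (p : F) ≠ 0 := by
  intro h0
  obtain ⟨k, hk⟩ := h1
  have hq : Fintype.card F = p * k + 1 := by
    have : 0 < Fintype.card F := Fintype.card_pos
    omega
  have h2 : ((Fintype.card F : ℕ) : F) = 0 := FiniteField.cast_card_eq_zero F
  rw [hq] at h2
  push_cast at h2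
  rw [h0, zero_mul, zero_add] at h2
  exact one_ne_zero h2

theorem card_mu {F : Type*} [Field F] [Fintype F] (p : ℕ) [Fact p.Prime]
    (h1 : p ∣ Fintype.card F - 1) : Nat.card {a : F // a ^ p = 1} = p := by
  classical
  have hp : p.Prime := Fact.out
  obtain ⟨ζ, hζ, hζ1⟩ := exists_zeta p h1
  have ho : orderOf ζ = p := orderOf_eq_prime hζ hζ1
  have hprim : IsPrimitiveRoot ζ p := by
    rw [← ho]; exact IsPrimitiveRoot.orderOf ζ
  rw [Nat.subtype_card (Polynomial.nthRootsFinset p (1 : F))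
    (fun x => Polynomial.mem_nthRootsFinset hp.pos 1), hprim.card_nthRootsFinset]

end Cfsg.Agent.Lib.Helper10.RedSyl
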